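import Mathlib
import Cfsg.Prelude.Def_Classical
import Cfsg.Prelude.Def_SporadicB

set_option autoImplicit false

/-!
# S0480 (simple 3-transposition groups): common interface

`FGroup D` are the hypotheses of Fischer's theorem, `Loc D x = D_x`, `Com D x y = D_x ∩ D_y`
(to be used for non commuting `x, y`), `CIso` is a bijection of subsets of groups preserving
commutation, and `InList` is the list of possible commutation structures.
-/

namespace Cfsg.Agent.Fischer480.Defs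

open Cfsg

universe u v w

/-- The hypotheses of Fischer's theorem. -/
structure FGroup {G : Type u} [Group G] (D : Set G) : Prop where
  cls : Cfsg.IsThreeTranspositionClass D
  sol : ∀ N : Subgroup G, N.Normal → Group.IsSolvable ↥N → N = ⊥
  perf : ⁅commutator G, commutator G⁆ = commutator G

/-- `D_x`, literally the set of the statements S1613 - S1616. -/
def Loc {G : Type u} [Group G] (D : Set G) (x : G) : Set G :=
  {y : G | y ∈ D ∧ y ≠ x ∧ Commute x y}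

/-- `D_x ∩ D_y`. -/
def Com {G : Type u} [Group G] (D : Set G) (x y : G) : Set G :=
  {z : G | z ∈ D ∧ Commute x z ∧ Commute y z}

/-- a bijection of subsets of groups preserving commutation -/
def CIso {G : Type u} {H : Type v} [Group G] [Group H] (E : Set G) (E' : Set H) : Prop :=
  ∃ φ : G → H, Set.BijOn φ E E' ∧ ∀ a ∈ E, ∀ b ∈ E, (Commute a b ↔ Commute (φ a) (φ b))

section Types

variable {G : Type u} [Group G]

/-- transpositions of `n` letters -/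
def IsSym (n : ℕ) (E : Set G) : Prop :=
  ∃ f : G → Finset (Fin n), (∀ x ∈ E, (f x).card = 2) ∧
    (∀ x ∈ E, ∀ y ∈ E, (Commute x y ↔ f x = f y ∨ Disjoint (f x) (f y))) ∧
    (∀ x ∈ E, ∀ y ∈ E, f x = f y → x = y) ∧
    (∀ s : Finset (Fin n), s.card = 2 → ∃ x ∈ E, f x = s)

/-- non zero vectors of a non degenerate symplectic space of dimension `2n` over `F_2` -/
def IsSp (n : ℕ) (E : Set G) : Prop :=
  ∃ (B : LinearMap.BilinForm (ZMod 2) (Fin (2 * n) → ZMod 2)) (f : G → Fin (2 * n) → ZMod 2),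
    B.IsAlt ∧ B.Nondegenerate ∧ (∀ x ∈ E, f x ≠ 0) ∧
    (∀ x ∈ E, ∀ y ∈ E, (Commute x y ↔ B (f x) (f y) = 0)) ∧
    (∀ x ∈ E, ∀ y ∈ E, f x = f y → x = y) ∧
    (∀ v, v ≠ 0 → ∃ x ∈ E, f x = v)

/-- the vectors with `Q = 1` of a non degenerate quadratic space of dimension `2n` over `F_2` -/
def IsO (n : ℕ) (E : Set G) : Prop :=
  ∃ (Q : QuadraticForm (ZMod 2) (Fin (2 * n) → ZMod 2)) (f : G → Fin (2 * n) → ZMod 2),
    (∀ v, (∀ v', QuadraticMap.polar Q v v' = 0) → v = 0) ∧ (∀ x ∈ E, Q (f x) = 1) ∧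
    (∀ x ∈ E, ∀ y ∈ E, (Commute x y ↔ QuadraticMap.polar Q (f x) (f y) = 0)) ∧
    (∀ x ∈ E, ∀ y ∈ E, f x = f y → x = y) ∧
    (∀ v, Q v = 1 → ∃ x ∈ E, f x = v)

/-- the isotropic points of the Hermitian space of dimension `n` over the field with 4 elements
(same shape as in `Fischer920.PsuEnd.exists_equiv_psu`) -/
def IsU (n : ℕ) (E : Set G) : Prop :=
  ∃ (F : Type) (_ : Field F) (_ : Fintype F) (f : G → Fin n → F), Fintype.card F = 4 ∧
    (∀ x ∈ E, f x ≠ 0) ∧ (∀ x ∈ E, hermForm n F 2 (f x) (f x) = 0) ∧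
    (∀ x ∈ E, ∀ y ∈ E, (Commute x y ↔ hermForm n F 2 (f x) (f y) = 0)) ∧
    (∀ x ∈ E, ∀ y ∈ E, ∀ c : F, f x = c • f y → x = y) ∧
    (∀ v : Fin n → F, v ≠ 0 → hermForm n F 2 v v = 0 → ∃ x ∈ E, ∃ c : F, v = c • f x)

/-- the points `±v` with `(v, v) = 1` of a non degenerate quadratic space of dimension `n` over
`F_3` -/
def IsR (n : ℕ) (E : Set G) : Prop :=
  ∃ (B : LinearMap.BilinForm (ZMod 3) (Fin n → ZMod 3)) (f : G → Fin n → ZMod 3),
    B.IsSymm ∧ B.Nondegenerate ∧ (∀ x ∈ E, B (f x) (f x) = 1) ∧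
    (∀ x ∈ E, ∀ y ∈ E, (Commute x y ↔ x = y ∨ B (f x) (f y) = 0)) ∧
    (∀ x ∈ E, ∀ y ∈ E, (f x = f y ∨ f x = - f y) → x = y) ∧
    (∀ v, B v v = 1 → ∃ x ∈ E, v = f x ∨ v = - f x)

/-- the type of `Fi22` -/
def IsT6 (E : Set G) : Prop :=
  E.ncard = 3510 ∧ (∀ x ∈ E, IsU 6 (Loc E x)) ∧
    ∀ x ∈ E, ∀ y ∈ E, ¬ Commute x y → (Com E x y).ncard = 126

/-- the type of `Fi23` -/
def IsT7 (E : Set G) : Prop :=
  E.ncard = 31671 ∧ (∀ x ∈ E, IsT6 (Loc E x)) ∧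
    ∀ x ∈ E, ∀ y ∈ E, ¬ Commute x y → (Com E x y).ncard = 351

/-- `E` is the union of three non empty subsets, members of different ones do not commute,
each of them of type `R 8` -/
def IsTriality (E : Set G) : Prop :=
  ∃ E₁ E₂ E₃ : Set G, E = E₁ ∪ E₂ ∪ E₃ ∧ IsR 8 E₁ ∧ IsR 8 E₂ ∧ IsR 8 E₃ ∧
    (∀ a ∈ E₁, ∀ b ∈ E₂, ¬ Commute a b) ∧ (∀ a ∈ E₁, ∀ b ∈ E₃, ¬ Commute a b) ∧
    (∀ a ∈ E₂, ∀ b ∈ E₃, ¬ Commute a b)

/-- the type of `Fi24` -/
def IsT8 (E : Set G) : Prop :=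
  E.ncard = 306936 ∧ (∀ x ∈ E, IsT7 (Loc E x)) ∧
    ∀ x ∈ E, ∀ y ∈ E, ¬ Commute x y → (Com E x y).ncard = 3240

/-- THE LIST -/
def InList (E : Set G) : Prop :=
  (∃ n, 5 ≤ n ∧ IsSym n E) ∨ (∃ n, 2 ≤ n ∧ IsSp n E) ∨ (∃ n, 3 ≤ n ∧ IsO n E) ∨
    (∃ n, 4 ≤ n ∧ IsU n E) ∨ (∃ n, 6 ≤ n ∧ IsR n E) ∨ IsT6 E ∨ IsT7 E ∨ IsT8 E

end Types

end Cfsg.Agent.Fischer480.Defs
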