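import Cfsg.Agent.Fischer480.Transport
import Cfsg.Prelude.Def_CaseTheorems
import Cfsg.Prelude.Def_Solvable

set_option autoImplicit false

/-!
# S0480: the main induction, with the pieces as hypotheses

`Pieces` collects the statements of the pieces; `inList` derives `InList D` for every Fischer group
from them.
-/

namespace Cfsg.Agent.Fischer480.Main

open Cfsg Cfsg.Agent.Fischer480.Defs

universe u

/-- the subgroup generated by `D_x` -/
def HH {G : Type u} [Group G] (D : Set G) (x : G) : Subgroup G := Subgroup.closure (Loc D x)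

/-- The pieces (all of them in one universe). -/
structure Pieces : Prop where
  /-- S1614, strong form -/
  solv : ∀ {G : Type u} [Group G] [Finite G] {D : Set G}, FGroup D → ∀ x ∈ D,
    Group.IsSolvable ↥(HH D x) → InList D
  /-- S1615, strong form -/
  odd : ∀ {G : Type u} [Group G] [Finite G] {D : Set G}, FGroup D → ∀ x ∈ D,
    ¬ Cfsg.oddCore ↥(HH D x) ≤ Subgroup.center ↥(HH D x) → InList D
  /-- S1616, strong form -/
  two : ∀ {G : Type u} [Group G] [Finite G] {D : Set G}, FGroup D → ∀ x ∈ D,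
    ¬ Cfsg.pCore 2 ↥(HH D x) ≤ Subgroup.center ↥(HH D x) → InList D
  /-- (1.1) -/
  inherit : ∀ {G : Type u} [Group G] [Finite G] {D : Set G}, FGroup D → ∀ x ∈ D,
    Cfsg.pCore 2 ↥(HH D x) ≤ Subgroup.center ↥(HH D x) →
    Cfsg.oddCore ↥(HH D x) ≤ Subgroup.center ↥(HH D x) →
    ¬ Group.IsSolvable ↥(HH D x) →
    ∃ (K : Type u) (_ : Group K) (_ : Finite K) (E : Set K), FGroup E ∧ CIso (Loc D x) E
  /-- (A) -/
  caseA : ∀ {G : Type u} [Group G] [Finite G] {D : Set G}, FGroup D → ∀ n, 5 ≤ n →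
    (∀ x ∈ D, IsSym n (Loc D x)) → InList D
  /-- (B) -/
  caseB : ∀ {G : Type u} [Group G] [Finite G] {D : Set G}, FGroup D → ∀ n, 2 ≤ n →
    (∀ x ∈ D, IsSp n (Loc D x)) → InList D
  /-- (C) -/
  caseC : ∀ {G : Type u} [Group G] [Finite G] {D : Set G}, FGroup D → ∀ n, 4 ≤ n →
    (∀ x ∈ D, IsO n (Loc D x)) → InList D
  /-- the two quadrics in dimension 6 -/
  isoO : ∀ {G : Type u} [Group G] (E : Set G), IsO 3 E → IsSym 8 E ∨ IsR 5 E
  /-- `U(4)` and `R(5)` -/
  isoU : ∀ {G : Type u} [Group G] (E : Set G), IsU 4 E → IsR 5 E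
  /-- (D) -/
  caseD : ∀ {G : Type u} [Group G] [Finite G] {D : Set G}, FGroup D → ∀ n, 5 ≤ n →
    (∀ x ∈ D, IsU n (Loc D x)) → InList D
  /-- (E) -/
  caseE : ∀ {G : Type u} [Group G] [Finite G] {D : Set G}, FGroup D → ∀ n, 5 ≤ n →
    (∀ x ∈ D, IsR n (Loc D x)) → IsR (n + 1) D
  /-- (F) -/
  caseF6 : ∀ {G : Type u} [Group G] [Finite G] {D : Set G}, FGroup D →
    (∀ x ∈ D, IsT6 (Loc D x)) → IsT7 D
  caseF7 : ∀ {G : Type u} [Group G] [Finite G] {D : Set G}, FGroup D →
    (∀ x ∈ D, IsT7 (Loc D x)) → IsT8 D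
  caseF8 : ∀ {G : Type u} [Group G] [Finite G] {D : Set G}, FGroup D →
    (∀ x ∈ D, IsT8 (Loc D x)) → InList D

theorem conj_mem {G : Type u} [Group G] {D : Set G} (hD : IsThreeTranspositionClass D) (g : G)
    {x : G} (hx : x ∈ D) : g * x * g⁻¹ ∈ D := by
  obtain ⟨-, ⟨d, hd, hDd⟩, -⟩ := hD
  rw [hDd] at hx ⊢
  have hx' : IsConj d x := hx
  exact hx'.trans (isConj_iff.2 ⟨g, rfl⟩)

theorem exists_conj {G : Type u} [Group G] {D : Set G} (hD : IsThreeTranspositionClass D)
    {x y : G} (hx : x ∈ D) (hy : y ∈ D) : ∃ g : G, g * x * g⁻¹ = y := by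
  obtain ⟨-, ⟨d, hd, hDd⟩, -⟩ := hD
  rw [hDd] at hx hy
  have hx' : IsConj d x := hx
  have hy' : IsConj d y := hy
  exact isConj_iff.1 (hx'.symm.trans hy')

/-- all local spaces of a class are isomorphic -/
theorem loc_cIso_loc {G : Type u} [Group G] {D : Set G} (hD : IsThreeTranspositionClass D)
    {x y : G} (hx : x ∈ D) (hy : y ∈ D) : CIso (Loc D x) (Loc D y) := by
  obtain ⟨g, rfl⟩ := exists_conj hD hx hy
  have hφ : Set.BijOn (fun z => g * z * g⁻¹) D D := by
    refine ⟨fun z hz => conj_mem hD g hz, fun a _ b _ hab => ?_, fun z hz => ?_⟩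
    · have : g * a * g⁻¹ = g * b * g⁻¹ := hab
      simpa using this
    · refine ⟨g⁻¹ * z * g, ?_, ?_⟩
      · have := conj_mem hD g⁻¹ hz
        simpa using this
      · show g * (g⁻¹ * z * g) * g⁻¹ = z
        group
  refine Transport.loc_cIso hφ (fun a _ b _ => ?_) hx
  constructor
  · intro h
    show g * a * g⁻¹ * (g * b * g⁻¹) = g * b * g⁻¹ * (g * a * g⁻¹)
    calc g * a * g⁻¹ * (g * b * g⁻¹) = g * (a * b) * g⁻¹ := by group
      _ = g * (b * a) * g⁻¹ := by rw [h.eq]
      _ = g * b * g⁻¹ * (g * a * g⁻¹) := by group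
  · intro h
    have h' : g * a * g⁻¹ * (g * b * g⁻¹) = g * b * g⁻¹ * (g * a * g⁻¹) := h
    show a * b = b * a
    calc a * b = g⁻¹ * (g * a * g⁻¹ * (g * b * g⁻¹)) * g := by group
      _ = g⁻¹ * (g * b * g⁻¹ * (g * a * g⁻¹)) * g := by rw [h']
      _ = b * a := by group

theorem inList_aux (P : Pieces.{u}) (m : ℕ) : ∀ {G : Type u} [Group G] [Finite G] {D : Set G},
    FGroup D → D.ncard ≤ m → InList D := by
  induction m with
  | zero =>
    intro G _ _ D hD hm
    exfalso
    obtain ⟨d, hd, -⟩ := hD.cls.2.1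
    have : 0 < D.ncard := (Set.ncard_pos (Set.toFinite D)).2 ⟨d, hd⟩
    omega
  | succ m ih =>
    intro G _ _ D hD hm
    obtain ⟨d, hd, -⟩ := hD.cls.2.1
    by_cases h2 : Cfsg.pCore 2 ↥(HH D d) ≤ Subgroup.center ↥(HH D d)
    swap
    · exact P.two hD d hd h2
    by_cases h3 : Cfsg.oddCore ↥(HH D d) ≤ Subgroup.center ↥(HH D d)
    swap
    · exact P.odd hD d hd h3
    by_cases h4 : Group.IsSolvable ↥(HH D d)
    · exact P.solv hD d hd h4
    obtain ⟨K, iK, iF, E, hE, hiso⟩ := P.inherit hD d hd h2 h3 h4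
    have hlt : (Loc D d).ncard < D.ncard := by
      refine Set.ncard_lt_ncard ?_ (Set.toFinite D)
      refine ⟨Transport.loc_subset D d, fun h => ?_⟩
      exact (h hd).2.1 rfl
    have hEin : InList E := ih hE (by rw [← Transport.ncard_eq hiso]; omega)
    have hall : ∀ x ∈ D, CIso (Loc D x) E := fun x hx =>
      Transport.CIso.trans (loc_cIso_loc hD.cls hx hd) hiso
    rcases hEin with ⟨n, hn, h'⟩ | ⟨n, hn, h'⟩ | ⟨n, hn, h'⟩ | ⟨n, hn, h'⟩ | ⟨n, hn, h'⟩ | h' | h' | h'
    · exact P.caseA hD n hn (fun x hx => Transport.isSym (hall x hx) h')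
    · exact P.caseB hD n hn (fun x hx => Transport.isSp (hall x hx) h')
    · rcases Nat.lt_or_ge n 4 with h | h
      · obtain rfl : n = 3 := by omega
        rcases P.isoO E h' with h'' | h''
        · exact P.caseA hD 8 (by norm_num) (fun x hx => Transport.isSym (hall x hx) h'')
        · exact Or.inr (Or.inr (Or.inr (Or.inr (Or.inl ⟨6, le_refl 6,
            P.caseE hD 5 (le_refl 5) (fun x hx => Transport.isR (hall x hx) h'')⟩))))
      · exact P.caseC hD n h (fun x hx => Transport.isO (hall x hx) h')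
    · rcases Nat.lt_or_ge n 5 with h | h
      · obtain rfl : n = 4 := by omega
        exact Or.inr (Or.inr (Or.inr (Or.inr (Or.inl ⟨6, le_refl 6,
          P.caseE hD 5 (le_refl 5) (fun x hx => Transport.isR (hall x hx) (P.isoU E h'))⟩))))
      · exact P.caseD hD n h (fun x hx => Transport.isU (hall x hx) h')
    · exact Or.inr (Or.inr (Or.inr (Or.inr (Or.inl ⟨n + 1, by omega,
        P.caseE hD n (by omega) (fun x hx => Transport.isR (hall x hx) h')⟩))))
    · exact Or.inr (Or.inr (Or.inr (Or.inr (Or.inr (Or.inr (Or.inl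
        (P.caseF6 hD (fun x hx => Transport.isT6 (hall x hx) h'))))))))
    · exact Or.inr (Or.inr (Or.inr (Or.inr (Or.inr (Or.inr (Or.inr
        (P.caseF7 hD (fun x hx => Transport.isT7 (hall x hx) h'))))))))
    · exact P.caseF8 hD (fun x hx => Transport.isT8 (hall x hx) h')

/-- **The classification, from the pieces.** -/
theorem inList (P : Pieces.{u}) {G : Type u} [Group G] [Finite G] {D : Set G} (hD : FGroup D) :
    InList D :=
  inList_aux P _ hD le_rfl

end Cfsg.Agent.Fischer480.Main
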