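import Cfsg.Agent.Fischer480.Main
import Cfsg.Agent.Fischer920.SolvPiece
import Cfsg.Agent.Fischer920.Pieces3
import Cfsg.Agent.Fischer920.IsoU
import Cfsg.Agent.Fischer920.IsoO
import Cfsg.Agent.Fischer160.Piece
import Cfsg.Agent.Fischer886.CaseA
import Cfsg.Agent.Fischer891.Cases
import Cfsg.Agent.S0480U.CaseDF
import Cfsg.Agent.Fischer3.Orth3Up

set_option autoImplicit false

/-!
# S0480: all pieces of the main induction
-/

namespace Cfsg.Agent.Fischer480.AllPieces

open Cfsg Cfsg.Agent.Fischer480.Defs Cfsg.Agent.Fischer480.Main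

universe u

/-- all pieces -/
theorem pieces : Pieces.{u} where
  solv := fun hD x hx h => Cfsg.Agent.Fischer920.SolvPiece.solv hD x hx h
  odd := fun hD x hx h => Cfsg.Agent.Fischer920.Pieces3.odd hD x hx h
  two := fun hD x hx h => Cfsg.Agent.Fischer920.SolvPiece.two hD x hx h
  inherit := fun hD x hx h2 h3 _ => Cfsg.Agent.Fischer160.Piece.inherit hD x hx h2 h3
  caseA := fun hD n hn h => Cfsg.Agent.Fischer886.CaseA.caseA_of_caseB
    (fun hD n hn h => Cfsg.Agent.Fischer891.Cases.caseB hD n hn h) hD n hn h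
  caseB := fun hD n hn h => Cfsg.Agent.Fischer891.Cases.caseB hD n hn h
  caseC := fun hD n hn h => Cfsg.Agent.Fischer891.Cases.caseC hD n hn h
  isoO := fun E h => Cfsg.Agent.Fischer920.IsoO.isoO E h
  isoU := fun E h => Cfsg.Agent.Fischer920.IsoU.isoU E h
  caseD := fun hD n hn h => Cfsg.Agent.S0480U.CaseDF.caseD hD n hn h
  caseE := fun hD n hn h => Cfsg.Agent.Fischer3.Orth3Up.caseE hD n hn h
  caseF6 := fun hD h => Cfsg.Agent.S0480U.CaseDF.caseF6 hD h
  caseF7 := fun hD h => Cfsg.Agent.S0480U.CaseDF.caseF7 hD h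
  caseF8 := fun hD h => Cfsg.Agent.S0480U.CaseDF.caseF8 hD h

/-- **Fischer's theorem, combinatorial form.** -/
theorem inList {G : Type u} [Group G] [Finite G] {D : Set G} (hD : FGroup D) : InList D :=
  Cfsg.Agent.Fischer480.Main.inList pieces hD

open scoped commutatorElement in
/-- the Fischer hypotheses hold in a non-abelian simple group -/
theorem fgroup {G : Type*} [Group G] [IsSimpleGroup G] (hna : ∃ x y : G, x * y ≠ y * x) {D : Set G}
    (hD : Cfsg.IsThreeTranspositionClass D) : FGroup D := by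
  have hc : commutator G = ⊤ := by
    rcases IsSimpleGroup.eq_bot_or_eq_top_of_normal (commutator G) inferInstance with h | h
    · exfalso
      obtain ⟨x, y, hxy⟩ := hna
      apply hxy
      have h1 : ⁅x, y⁆ ∈ commutator G :=
        Subgroup.commutator_mem_commutator (Subgroup.mem_top x) (Subgroup.mem_top y)
      rw [h, Subgroup.mem_bot, commutatorElement_eq_one_iff_mul_comm] at h1
      exact h1
    · exact h
  refine ⟨hD, ?_, ?_⟩
  · intro N hN hs
    rcases IsSimpleGroup.eq_bot_or_eq_top_of_normal N hN with h | h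
    · exact h
    · exfalso
      subst h
      have hs' : IsSolvable G := by
        have := hs
        exact solvable_of_surjective (f := (Subgroup.topEquiv : (⊤ : Subgroup G) ≃* G).toMonoidHom)
          (MulEquiv.surjective _)
      obtain ⟨x, y, hxy⟩ := hna
      exact hxy (IsSimpleGroup.comm_iff_isSolvable.2 hs' x y)
  · rw [hc]
    have h2 : ⁅(⊤ : Subgroup G), ⊤⁆ = commutator G := by rw [commutator_def]
    rw [h2, hc]

end Cfsg.Agent.Fischer480.AllPieces
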