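import Cfsg.Agent.Fischer480.Defs

set_option autoImplicit false

/-!
# Transport of the commutation types along commutation preserving bijections
-/

namespace Cfsg.Agent.Fischer480.Transport

open Cfsg Cfsg.Agent.Fischer480.Defs

universe u v w

variable {G : Type u} {H : Type v} {K : Type w} [Group G] [Group H] [Group K]

theorem CIso.refl (E : Set G) : CIso E E := ⟨id, Set.bijOn_id E, fun _ _ _ _ => Iff.rfl⟩

theorem CIso.symm {E : Set G} {E' : Set H} (h : CIso E E') : CIso E' E := by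
  classical
  obtain ⟨φ, hφ, hc⟩ := h
  have hinv : Set.InvOn (Function.invFunOn φ E) φ E E' :=
    ⟨fun a ha => hφ.injOn (Function.invFunOn_mem ⟨a, ha, rfl⟩) ha (Function.invFunOn_eq ⟨a, ha, rfl⟩),
      fun b hb => Function.invFunOn_eq (hφ.surjOn hb)⟩
  refine ⟨Function.invFunOn φ E, ?_, ?_⟩
  · refine Set.InvOn.bijOn hinv.symm ?_ ?_
    · intro b hb
      exact Function.invFunOn_mem (hφ.surjOn hb)
    · exact hφ.mapsTo
  · intro a ha b hb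
    rw [hc _ (Function.invFunOn_mem (hφ.surjOn ha)) _ (Function.invFunOn_mem (hφ.surjOn hb)),
      Function.invFunOn_eq (hφ.surjOn ha), Function.invFunOn_eq (hφ.surjOn hb)]

theorem CIso.trans {E : Set G} {E' : Set H} {E'' : Set K} (h : CIso E E') (h' : CIso E' E'') :
    CIso E E'' := by
  obtain ⟨φ, hφ, hc⟩ := h
  obtain ⟨ψ, hψ, hd⟩ := h'
  refine ⟨ψ ∘ φ, hψ.comp hφ, ?_⟩
  intro a ha b hb
  rw [hc a ha b hb, hd _ (hφ.mapsTo ha) _ (hφ.mapsTo hb)]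
  rfl

theorem ncard_eq {E : Set G} {E' : Set H} (h : CIso E E') : E.ncard = E'.ncard := by
  obtain ⟨φ, hφ, -⟩ := h
  rw [← hφ.image_eq, hφ.injOn.ncard_image]

/-- restriction of a commutation preserving bijection to subsets -/
theorem restrict {E : Set G} {E' : Set H} {φ : G → H} (hφ : Set.BijOn φ E E')
    (hc : ∀ a ∈ E, ∀ b ∈ E, (Commute a b ↔ Commute (φ a) (φ b))) {A : Set G} (hA : A ⊆ E) :
    CIso A (φ '' A) :=
  ⟨φ, (hφ.injOn.mono hA).bijOn_image, fun a ha b hb => hc a (hA ha) b (hA hb)⟩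

theorem image_loc {E : Set G} {E' : Set H} {φ : G → H} (hφ : Set.BijOn φ E E')
    (hc : ∀ a ∈ E, ∀ b ∈ E, (Commute a b ↔ Commute (φ a) (φ b))) {x : G} (hx : x ∈ E) :
    φ '' (Loc E x) = Loc E' (φ x) := by
  ext z
  constructor
  · rintro ⟨y, ⟨hy, hyx, hxy⟩, rfl⟩
    exact ⟨hφ.mapsTo hy, fun h => hyx (hφ.injOn hy hx h), (hc x hx y hy).1 hxy⟩
  · rintro ⟨hz, hzx, hxz⟩
    obtain ⟨y, hy, rfl⟩ := hφ.surjOn hz
    exact ⟨y, ⟨hy, fun h => hzx (by rw [h]), (hc x hx y hy).2 hxz⟩, rfl⟩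

theorem image_com {E : Set G} {E' : Set H} {φ : G → H} (hφ : Set.BijOn φ E E')
    (hc : ∀ a ∈ E, ∀ b ∈ E, (Commute a b ↔ Commute (φ a) (φ b))) {x y : G} (hx : x ∈ E)
    (hy : y ∈ E) : φ '' (Com E x y) = Com E' (φ x) (φ y) := by
  ext z
  constructor
  · rintro ⟨w, ⟨hw, hxw, hyw⟩, rfl⟩
    exact ⟨hφ.mapsTo hw, (hc x hx w hw).1 hxw, (hc y hy w hw).1 hyw⟩
  · rintro ⟨hz, hxz, hyz⟩
    obtain ⟨w, hw, rfl⟩ := hφ.surjOn hz
    exact ⟨w, ⟨hw, (hc x hx w hw).2 hxz, (hc y hy w hw).2 hyz⟩, rfl⟩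

theorem loc_subset (E : Set G) (x : G) : Loc E x ⊆ E := fun _ h => h.1

theorem com_subset (E : Set G) (x y : G) : Com E x y ⊆ E := fun _ h => h.1

/-- local spaces of isomorphic spaces -/
theorem loc_cIso {E : Set G} {E' : Set H} {φ : G → H} (hφ : Set.BijOn φ E E')
    (hc : ∀ a ∈ E, ∀ b ∈ E, (Commute a b ↔ Commute (φ a) (φ b))) {x : G} (hx : x ∈ E) :
    CIso (Loc E x) (Loc E' (φ x)) := by
  rw [← image_loc hφ hc hx]
  exact restrict hφ hc (loc_subset E x)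

theorem com_cIso {E : Set G} {E' : Set H} {φ : G → H} (hφ : Set.BijOn φ E E')
    (hc : ∀ a ∈ E, ∀ b ∈ E, (Commute a b ↔ Commute (φ a) (φ b))) {x y : G} (hx : x ∈ E)
    (hy : y ∈ E) : CIso (Com E x y) (Com E' (φ x) (φ y)) := by
  rw [← image_com hφ hc hx hy]
  exact restrict hφ hc (com_subset E x y)

theorem isSym {n : ℕ} {E : Set G} {E' : Set H} (h : CIso E E') (h' : IsSym n E') :
    IsSym n E := by
  obtain ⟨φ, hφ, hc⟩ := h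
  obtain ⟨f, h1, h2, h3, h4⟩ := h'
  refine ⟨f ∘ φ, fun x hx => h1 _ (hφ.mapsTo hx), fun x hx y hy => ?_, fun x hx y hy he => ?_,
    fun s hs => ?_⟩
  · rw [hc x hx y hy, h2 _ (hφ.mapsTo hx) _ (hφ.mapsTo hy)]
    rfl
  · exact hφ.injOn hx hy (h3 _ (hφ.mapsTo hx) _ (hφ.mapsTo hy) he)
  · obtain ⟨z, hz, rfl⟩ := h4 s hs
    obtain ⟨x, hx, rfl⟩ := hφ.surjOn hz
    exact ⟨x, hx, rfl⟩

theorem isSp {n : ℕ} {E : Set G} {E' : Set H} (h : CIso E E') (h' : IsSp n E') :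
    IsSp n E := by
  obtain ⟨φ, hφ, hc⟩ := h
  obtain ⟨B, f, hB, hB', h1, h2, h3, h4⟩ := h'
  refine ⟨B, f ∘ φ, hB, hB', fun x hx => h1 _ (hφ.mapsTo hx), fun x hx y hy => ?_,
    fun x hx y hy he => ?_, fun s hs => ?_⟩
  · rw [hc x hx y hy, h2 _ (hφ.mapsTo hx) _ (hφ.mapsTo hy)]
    rfl
  · exact hφ.injOn hx hy (h3 _ (hφ.mapsTo hx) _ (hφ.mapsTo hy) he)
  · obtain ⟨z, hz, rfl⟩ := h4 s hs
    obtain ⟨x, hx, rfl⟩ := hφ.surjOn hz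
    exact ⟨x, hx, rfl⟩

theorem isO {n : ℕ} {E : Set G} {E' : Set H} (h : CIso E E') (h' : IsO n E') :
    IsO n E := by
  obtain ⟨φ, hφ, hc⟩ := h
  obtain ⟨Q, f, hQ, h1, h2, h3, h4⟩ := h'
  refine ⟨Q, f ∘ φ, hQ, fun x hx => h1 _ (hφ.mapsTo hx), fun x hx y hy => ?_,
    fun x hx y hy he => ?_, fun s hs => ?_⟩
  · rw [hc x hx y hy, h2 _ (hφ.mapsTo hx) _ (hφ.mapsTo hy)]
    rfl
  · exact hφ.injOn hx hy (h3 _ (hφ.mapsTo hx) _ (hφ.mapsTo hy) he)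
  · obtain ⟨z, hz, rfl⟩ := h4 s hs
    obtain ⟨x, hx, rfl⟩ := hφ.surjOn hz
    exact ⟨x, hx, rfl⟩

theorem isU {n : ℕ} {E : Set G} {E' : Set H} (h : CIso E E') (h' : IsU n E') :
    IsU n E := by
  obtain ⟨φ, hφ, hc⟩ := h
  obtain ⟨F, i1, i2, f, hF, h0, h1, h2, h3, h4⟩ := h'
  refine ⟨F, i1, i2, f ∘ φ, hF, fun x hx => h0 _ (hφ.mapsTo hx), fun x hx => h1 _ (hφ.mapsTo hx),
    fun x hx y hy => ?_, fun x hx y hy c he => ?_, fun s hs hs' => ?_⟩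
  · rw [hc x hx y hy, h2 _ (hφ.mapsTo hx) _ (hφ.mapsTo hy)]
    rfl
  · exact hφ.injOn hx hy (h3 _ (hφ.mapsTo hx) _ (hφ.mapsTo hy) c he)
  · obtain ⟨z, hz, c, hc'⟩ := h4 s hs hs'
    obtain ⟨x, hx, rfl⟩ := hφ.surjOn hz
    exact ⟨x, hx, c, hc'⟩

theorem isR {n : ℕ} {E : Set G} {E' : Set H} (h : CIso E E') (h' : IsR n E') :
    IsR n E := by
  obtain ⟨φ, hφ, hc⟩ := h
  obtain ⟨B, f, hB, hB', h1, h2, h3, h4⟩ := h'
  refine ⟨B, f ∘ φ, hB, hB', fun x hx => h1 _ (hφ.mapsTo hx), fun x hx y hy => ?_,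
    fun x hx y hy he => ?_, fun s hs => ?_⟩
  · rw [hc x hx y hy, h2 _ (hφ.mapsTo hx) _ (hφ.mapsTo hy)]
    constructor
    · rintro (h | h)
      · exact Or.inl (hφ.injOn hx hy h)
      · exact Or.inr h
    · rintro (h | h)
      · exact Or.inl (by rw [h])
      · exact Or.inr h
  · exact hφ.injOn hx hy (h3 _ (hφ.mapsTo hx) _ (hφ.mapsTo hy) he)
  · obtain ⟨z, hz, hz'⟩ := h4 s hs
    obtain ⟨x, hx, rfl⟩ := hφ.surjOn hz
    exact ⟨x, hx, hz'⟩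

theorem isT6 {E : Set G} {E' : Set H} (h : CIso E E') (h' : IsT6 E') : IsT6 E := by
  have h0 := ncard_eq h
  obtain ⟨φ, hφ, hc⟩ := h
  obtain ⟨h1, h2, h3⟩ := h'
  refine ⟨h0.trans h1, fun x hx => isU (loc_cIso hφ hc hx) (h2 _ (hφ.mapsTo hx)),
    fun x hx y hy hxy => (ncard_eq (com_cIso hφ hc hx hy)).trans
      (h3 _ (hφ.mapsTo hx) _ (hφ.mapsTo hy) (fun h => hxy ((hc x hx y hy).2 h)))⟩

theorem isT7 {E : Set G} {E' : Set H} (h : CIso E E') (h' : IsT7 E') : IsT7 E := by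
  have h0 := ncard_eq h
  obtain ⟨φ, hφ, hc⟩ := h
  obtain ⟨h1, h2, h3⟩ := h'
  refine ⟨h0.trans h1, fun x hx => isT6 (loc_cIso hφ hc hx) (h2 _ (hφ.mapsTo hx)),
    fun x hx y hy hxy => (ncard_eq (com_cIso hφ hc hx hy)).trans
      (h3 _ (hφ.mapsTo hx) _ (hφ.mapsTo hy) (fun h => hxy ((hc x hx y hy).2 h)))⟩

theorem isTriality {E : Set G} {E' : Set H} (h : CIso E E') (h' : IsTriality E') :
    IsTriality E := by
  obtain ⟨ψ, hψ, hd⟩ := CIso.symm h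
  obtain ⟨E₁, E₂, E₃, rfl, h1, h2, h3, h12, h13, h23⟩ := h'
  have s1 : E₁ ⊆ E₁ ∪ E₂ ∪ E₃ := fun a ha => Or.inl (Or.inl ha)
  have s2 : E₂ ⊆ E₁ ∪ E₂ ∪ E₃ := fun a ha => Or.inl (Or.inr ha)
  have s3 : E₃ ⊆ E₁ ∪ E₂ ∪ E₃ := fun a ha => Or.inr ha
  refine ⟨ψ '' E₁, ψ '' E₂, ψ '' E₃, ?_, isR (CIso.symm (restrict hψ hd s1)) h1,
    isR (CIso.symm (restrict hψ hd s2)) h2, isR (CIso.symm (restrict hψ hd s3)) h3, ?_, ?_, ?_⟩
  · rw [← Set.image_union, ← Set.image_union, hψ.image_eq]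
  · rintro _ ⟨a, ha, rfl⟩ _ ⟨b, hb, rfl⟩ hab
    exact h12 a ha b hb ((hd a (s1 ha) b (s2 hb)).2 hab)
  · rintro _ ⟨a, ha, rfl⟩ _ ⟨b, hb, rfl⟩ hab
    exact h13 a ha b hb ((hd a (s1 ha) b (s3 hb)).2 hab)
  · rintro _ ⟨a, ha, rfl⟩ _ ⟨b, hb, rfl⟩ hab
    exact h23 a ha b hb ((hd a (s2 ha) b (s3 hb)).2 hab)

theorem isT8 {E : Set G} {E' : Set H} (h : CIso E E') (h' : IsT8 E') : IsT8 E := by
  have h0 := ncard_eq h
  obtain ⟨φ, hφ, hc⟩ := h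
  obtain ⟨h1, h2, h3⟩ := h'
  refine ⟨h0.trans h1, fun x hx => isT7 (loc_cIso hφ hc hx) (h2 _ (hφ.mapsTo hx)),
    fun x hx y hy hxy => (ncard_eq (com_cIso hφ hc hx hy)).trans
      (h3 _ (hφ.mapsTo hx) _ (hφ.mapsTo hy) (fun h => hxy ((hc x hx y hy).2 h)))⟩

/-- **Transport of the list.** -/
theorem inList {E : Set G} {E' : Set H} (h : CIso E E') (h' : InList E') : InList E := by
  rcases h' with ⟨n, hn, h'⟩ | ⟨n, hn, h'⟩ | ⟨n, hn, h'⟩ | ⟨n, hn, h'⟩ | ⟨n, hn, h'⟩ | h' | h' | h'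
  · exact Or.inl ⟨n, hn, isSym h h'⟩
  · exact Or.inr (Or.inl ⟨n, hn, isSp h h'⟩)
  · exact Or.inr (Or.inr (Or.inl ⟨n, hn, isO h h'⟩))
  · exact Or.inr (Or.inr (Or.inr (Or.inl ⟨n, hn, isU h h'⟩)))
  · exact Or.inr (Or.inr (Or.inr (Or.inr (Or.inl ⟨n, hn, isR h h'⟩))))
  · exact Or.inr (Or.inr (Or.inr (Or.inr (Or.inr (Or.inl (isT6 h h'))))))
  · exact Or.inr (Or.inr (Or.inr (Or.inr (Or.inr (Or.inr (Or.inl (isT7 h h')))))))
  · exact Or.inr (Or.inr (Or.inr (Or.inr (Or.inr (Or.inr (Or.inr (isT8 h h')))))))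

end Cfsg.Agent.Fischer480.Transport
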